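import Cfsg.Agent.H689.EP.L27
import Cfsg.Agent.S0243

/-!
# Task 5941 (S3499-IV-L `L₂(7)`): the row (helper689)

`psl27` : `soc(A) = PSL₂(7)` ⟹ `|Q : A| ≤ 5041`, `|Q| ≤ 1693776` and `|Q| ≠ 6048`.
-/

set_option autoImplicit false

namespace Cfsg.Agent.H689.EP

open Subgroup Cfsg.Agent.H284

variable {Q : Type*} [Group Q] [Finite Q] {A : Subgroup Q} {Γ : Subgroup (MulAut Q)}

/-- the hypotheses in the form of the task -/
theorem soc_of_psl (h : EPT A Γ) {N : Subgroup Q} (hNA : N ≤ A) (hN : ∀ a ∈ A, ∀ n ∈ N, a * n * a⁻¹ ∈ N)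
    {F : Type*} [Field F] [Fintype F] (hF : Fintype.card F = 7) (e : N ≃* Matrix.ProjectiveSpecialLinearGroup (Fin 2) F)
    (hC : ∀ a ∈ A, (∀ n ∈ N, a * n = n * a) → a = 1) : Soc A Γ N := by
  classical
  have hs : IsSimpleGroup (Matrix.ProjectiveSpecialLinearGroup (Fin 2) F) :=
    Matrix.ProjectiveSpecialLinearGroup.rank_two_simple (by rw [Nat.card_eq_fintype_card, hF]; norm_num)
  have hc : Nat.card (Matrix.ProjectiveSpecialLinearGroup (Fin 2) F) = 168 := by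
    have h1 := Cfsg.Agent.S0243.result hF 2 le_rfl
    rw [Fin.prod_univ_two] at h1
    norm_num at h1
    rw [Nat.card_eq_fintype_card]
    omega
  exact ⟨h, hNA, hN, e.isSimpleGroup, by rw [Nat.card_congr e.toEquiv, hc], hC⟩

/-- **the row `L₂(7)`** -/
theorem psl27 (h : EPT A Γ) {N : Subgroup Q} (hNA : N ≤ A) (hN : ∀ a ∈ A, ∀ n ∈ N, a * n * a⁻¹ ∈ N)
    {F : Type*} [Field F] [Fintype F] (hF : Fintype.card F = 7) (e : N ≃* Matrix.ProjectiveSpecialLinearGroup (Fin 2) F)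
    (hC : ∀ a ∈ A, (∀ n ∈ N, a * n = n * a) → a = 1) :
    A.index ≤ 5041 ∧ Nat.card Q ≤ 1693776 ∧ Nat.card Q ≠ 6048 :=
  let hS := soc_of_psl h hNA hN hF e hC
  ⟨hS.index_le, hS.card_le, hS.tight⟩

/-- the rows `T = L₃(p), p ≥ 11`, `U₃(p), p ≥ 13`, `PSp₆`, `PSp₈` -/
theorem psl27_false (h : EPT A Γ) {N : Subgroup Q} (hNA : N ≤ A) (hN : ∀ a ∈ A, ∀ n ∈ N, a * n * a⁻¹ ∈ N)
    {F : Type*} [Field F] [Fintype F] (hF : Fintype.card F = 7) (e : N ≃* Matrix.ProjectiveSpecialLinearGroup (Fin 2) F)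
    (hC : ∀ a ∈ A, (∀ n ∈ N, a * n = n * a) → a = 1) (hQ : 1693776 < Nat.card Q ∨ Nat.card Q = 6048) : False := by
  obtain ⟨-, h1, h2⟩ := psl27 h hNA hN hF e hC
  rcases hQ with h3 | h3
  · omega
  · exact h2 h3

end Cfsg.Agent.H689.EP
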