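import Cfsg.Agent.H689.EP.S168
import Cfsg.Agent.H284.EP.TForm

/-!
# Task 5941 (S3499-IV-L `L₂(7)`): extremely primitive groups with `soc(A) = L₂(7)` (helper689)

* `index_le` : `|Q : A| ≤ 5041`, `card_le` : `|Q| ≤ 1693776`;
* `tight` : `|Q| ≠ 6048`.
-/

set_option autoImplicit false

namespace Cfsg.Agent.H689.EP

open Subgroup Cfsg.Agent.H284
open scoped Pointwise

/-- the situation: `N ⊴ A` is simple of order 168 and `C_A(N) = 1` -/
structure Soc {Q : Type*} [Group Q] (A : Subgroup Q) (Γ : Subgroup (MulAut Q)) (N : Subgroup Q) : Prop where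
  ept : EPT A Γ
  le : N ≤ A
  nrm : ∀ a ∈ A, ∀ n ∈ N, a * n * a⁻¹ ∈ N
  simple : IsSimpleGroup N
  card : Nat.card N = 168
  cent : ∀ a ∈ A, (∀ n ∈ N, a * n = n * a) → a = 1

namespace Soc

variable {Q : Type*} [Group Q] [Finite Q] {A : Subgroup Q} {Γ : Subgroup (MulAut Q)} {N : Subgroup Q} (h : Soc A Γ N)
include h

theorem ne_bot : N ≠ ⊥ := by
  intro e
  have := h.card
  rw [e, Subgroup.card_bot] at this
  omega

theorem not_comm : ¬ ∀ a ∈ N, ∀ b ∈ N, a * b = b * a := by
  intro hc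
  obtain ⟨x, hx⟩ := Subgroup.ne_bot_iff_exists_ne_one.1 h.ne_bot
  apply hx
  apply Subtype.ext
  exact h.cent x (h.le x.2) (fun n hn => hc x x.2 n hn)

theorem card_A_dvd : Nat.card A ∣ 336 := by
  have hn : (N.subgroupOf A).Normal := ⟨by
    intro n hn a
    exact h.nrm a a.2 n hn⟩
  let e : N.subgroupOf A ≃* N := Subgroup.subgroupOfEquivOfLe h.le
  have hs := h.simple
  have hs' : IsSimpleGroup (N.subgroupOf A) := e.isSimpleGroup
  have hc : Nat.card (N.subgroupOf A) = 168 := by rw [Nat.card_congr e.toEquiv]; exact h.card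
  rw [← card_aut hc]
  refine Subgroup.card_dvd_of_injective (MulAut.conjNormal : A →* MulAut (N.subgroupOf A)) ?_
  rw [injective_iff_map_eq_one]
  intro a ha
  apply Subtype.ext
  refine h.cent a a.2 (fun n hn => ?_)
  have h1 := congrArg (fun σ : MulAut (N.subgroupOf A) => ((σ ⟨⟨n, h.le hn⟩, hn⟩ : N.subgroupOf A) : A)) ha
  have h2 := congrArg Subtype.val h1
  have h3 : (a : Q) * n * (a : Q)⁻¹ = n := h2
  rw [mul_inv_eq_iff_eq_mul] at h3
  exact h3

theorem card_A : Nat.card A = 168 ∨ Nat.card A = 336 := by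
  have h1 := h.card_A_dvd
  have h2 := Subgroup.card_dvd_of_le h.le
  rw [h.card] at h2
  obtain ⟨k, hk⟩ := h2
  rw [hk] at h1 ⊢
  have h3 : k ∣ 2 := Nat.dvd_of_mul_dvd_mul_left (k := 168) (by norm_num) (by norm_num; exact h1)
  rcases (Nat.dvd_prime (by norm_num)).mp h3 with rfl | rfl
  · left; rfl
  · right; rfl

theorem comm_mem {a b : Q} (ha : a ∈ A) (hb : b ∈ A) : a * b * a⁻¹ * b⁻¹ ∈ N := by
  have h1 : N.relIndex A ∣ 2 := by
    have h2 := Subgroup.relIndex_mul_relIndex ⊥ N A bot_le h.le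
    rw [relIndex_bot_left, relIndex_bot_left, h.card] at h2
    rcases h.card_A with h3 | h3
    · rw [h3] at h2
      have : N.relIndex A = 1 := by omega
      rw [this]; norm_num
    · rw [h3] at h2
      have : N.relIndex A = 2 := by omega
      rw [this]
  rcases (Nat.dvd_prime (by norm_num)).mp h1 with h3 | h3
  · rw [relIndex_eq_one] at h3
    exact h3 (A.mul_mem (A.mul_mem (A.mul_mem ha hb) (A.inv_mem ha)) (A.inv_mem hb))
  · have h4 : (N.subgroupOf A).index = 2 := h3
    have h5 : (⟨a, ha⟩ : A) * ⟨b, hb⟩ * (⟨a, ha⟩ : A)⁻¹ * (⟨b, hb⟩ : A)⁻¹ ∈ N.subgroupOf A := by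
      rw [Subgroup.mul_mem_iff_of_index_two h4, Subgroup.mul_mem_iff_of_index_two h4,
        Subgroup.mul_mem_iff_of_index_two h4, inv_mem_iff, inv_mem_iff]
      tauto
    exact h5

/-- a nontrivial normal subgroup of `A` contains `N` -/
theorem le_of_normal {K : Subgroup Q} (hK : K ≤ A) (hKn : ∀ a ∈ A, ∀ k ∈ K, a * k * a⁻¹ ∈ K) (hne : K ≠ ⊥) : N ≤ K := by
  have hs := h.simple
  have h1 : (K.subgroupOf N).Normal := ⟨by
    intro k hk n
    exact hKn n (h.le n.2) k hk⟩
  rcases h1.eq_bot_or_eq_top with h2 | h2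
  · exfalso
    apply hne
    rw [Subgroup.eq_bot_iff_forall]
    intro k hk
    refine h.cent k (hK hk) (fun n hn => ?_)
    have h3 : k * n * k⁻¹ * n⁻¹ ∈ K := by
      have := K.mul_mem hk (hKn n (h.le hn) _ (K.inv_mem hk))
      have e : k * (n * k⁻¹ * n⁻¹) = k * n * k⁻¹ * n⁻¹ := by group
      rwa [e] at this
    have h4 : k * n * k⁻¹ * n⁻¹ ∈ N := N.mul_mem (h.nrm k (hK hk) n hn) (N.inv_mem hn)
    have h5 : (⟨_, h4⟩ : N) ∈ K.subgroupOf N := h3
    rw [h2, mem_bot] at h5
    have h6 : k * n * k⁻¹ * n⁻¹ = 1 := congrArg Subtype.val h5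
    rw [mul_inv_eq_one, mul_inv_eq_iff_eq_mul] at h6
    exact h6
  · exact Subgroup.subgroupOf_eq_top.mp h2

/-- `N` is invariant under `Γ` -/
theorem inv {σ : MulAut Q} (hσ : σ ∈ Γ) {n : Q} (hn : n ∈ N) : σ n ∈ N := by
  have hA : N.map σ.toMonoidHom ≤ A := by
    rintro _ ⟨y, hy, rfl⟩
    exact (h.ept.inv σ hσ y).2 (h.le hy)
  have h1 : N ≤ N.map σ.toMonoidHom := by
    refine h.le_of_normal hA ?_ ?_
    · rintro a ha _ ⟨y, hy, rfl⟩
      have h2 : σ⁻¹ a ∈ A := (h.ept.inv σ⁻¹ (Γ.inv_mem hσ) a).2 ha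
      refine ⟨σ⁻¹ a * y * (σ⁻¹ a)⁻¹, h.nrm _ h2 y hy, ?_⟩
      change σ (σ⁻¹ a * y * (σ⁻¹ a)⁻¹) = a * σ y * a⁻¹
      rw [map_mul, map_mul, map_inv, MulAut.apply_inv_self]
    · intro e
      rw [Subgroup.map_eq_bot_iff_of_injective _ σ.injective] at e
      exact h.ne_bot e
  have h2 : N = N.map σ.toMonoidHom := Subgroup.eq_of_le_of_card_ge h1 (by
    rw [Subgroup.card_map_of_injective σ.injective])
  rw [h2]
  exact ⟨n, hn, rfl⟩

theorem not_le {x : Q} (hx : x ∉ A) : ¬ N ≤ cj x A := fun hle =>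
  h.ne_bot (h.ept.F1 x hx N h.le (fun _ hσ _ hn => h.inv hσ hn) hle)

/-- `D(x) = N ∩ A^x` is not trivial -/
theorem D_ne {x : Q} (hx : x ∉ A) : N ⊓ cj x A ≠ ⊥ := by
  intro e
  obtain ⟨K, hK, hKΓ, hne, hab⟩ := h.ept.abM0 x hx (by
    rintro a ha b hb
    have h1 : a * b * a⁻¹ * b⁻¹ ∈ N ⊓ cj x A := by
      refine ⟨h.comm_mem (mem_inf.1 ha).1 (mem_inf.1 hb).1, ?_⟩
      exact (cj x A).mul_mem ((cj x A).mul_mem ((cj x A).mul_mem (mem_inf.1 ha).2 (mem_inf.1 hb).2)
        ((cj x A).inv_mem (mem_inf.1 ha).2)) ((cj x A).inv_mem (mem_inf.1 hb).2)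
    rw [e, mem_bot, mul_inv_eq_one, mul_inv_eq_iff_eq_mul] at h1
    exact h1)
  have h2 : N ≤ K := h.le_of_normal hK (fun a ha k hk => by
    have := hKΓ _ ((h.ept.conj a).2 ha) k hk
    rwa [MulAut.conj_apply] at this) hne
  exact h.not_comm (fun a ha b hb => hab a (h2 ha) b (h2 hb))

theorem D_inv {x : Q} {σ : MulAut Q} (hσ : σ ∈ Γ) (hσx : x⁻¹ * σ x ∈ A) {y : Q} (hy : y ∈ N ⊓ cj x A) :
    σ y ∈ N ⊓ cj x A :=
  ⟨h.inv hσ (mem_inf.1 hy).1, (mem_inf.1 (h.ept.stab_M0 hσ hσx ⟨h.le (mem_inf.1 hy).1, (mem_inf.1 hy).2⟩)).2⟩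

/-- elements of `Γ` normalizing `D(x)` fix the point -/
theorem norm_D {x : Q} (hx : x ∉ A) {σ : MulAut Q} (hσ : σ ∈ Γ) (hn : ∀ y ∈ N ⊓ cj x A, σ y ∈ N ⊓ cj x A) :
    x⁻¹ * σ x ∈ A :=
  h.ept.norm x hx (N ⊓ cj x A) (fun y hy => ⟨h.le (mem_inf.1 hy).1, (mem_inf.1 hy).2⟩)
    (fun _ hτ hτx _ hz => h.D_inv hτ hτx hz) (h.D_ne hx) σ hσ hn

/-- the subgroup `D(x)` in `N` -/
theorem mem_SN {x : Q} (hx : x ∉ A) : (cj x A).subgroupOf N ∈ SN N := by
  refine ⟨?_, ?_⟩
  · intro e
    exact h.not_le hx (Subgroup.subgroupOf_eq_top.mp e)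
  · intro n hn
    rw [Subgroup.mem_normalizer_iff] at hn
    have h1 : x⁻¹ * MulAut.conj (n : Q) x ∈ A := by
      refine h.norm_D hx ((h.ept.conj _).2 (h.le n.2)) ?_
      intro y hy
      have h2 := (hn ⟨y, (mem_inf.1 hy).1⟩).mp (mem_inf.1 hy).2
      exact ⟨N.mul_mem (N.mul_mem n.2 (mem_inf.1 hy).1) (N.inv_mem n.2), h2⟩
    exact (h.ept.conj_stab (h.le n.2)).1 h1

theorem M0_of_D {x y : Q} (hy : y ∉ A) (he : (cj x A).subgroupOf N = (cj y A).subgroupOf N) :
    A ⊓ cj x A ≤ A ⊓ cj y A := by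
  have he' : ∀ z, z ∈ N → (z ∈ cj x A ↔ z ∈ cj y A) := by
    intro z hz
    have := congrArg (fun K : Subgroup N => (⟨z, hz⟩ : N) ∈ K) he
    simpa [Subgroup.mem_subgroupOf] using this
  rintro a ⟨ha1, ha2⟩
  refine ⟨ha1, (h.ept.conj_stab ha1).1 (h.norm_D hy ((h.ept.conj _).2 ha1) ?_)⟩
  intro z hz
  have hz1 := (mem_inf.1 hz).1
  have hz2 := (he' z hz1).2 (mem_inf.1 hz).2
  have h3 : MulAut.conj a z ∈ N := h.nrm a ha1 z hz1
  refine ⟨h3, (he' _ h3).1 ?_⟩
  rw [MulAut.conj_apply]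
  exact mul_mem (mul_mem ha2 hz2) (inv_mem ha2)

/-- the number of two-point stabilisers -/
theorem ncard_le (S : Set (Subgroup N)) (hS : ∀ x, x ∉ A → (cj x A).subgroupOf N ∈ S) :
    {M : Subgroup Q | ∃ x, x ∉ A ∧ M = A ⊓ cj x A}.ncard ≤ S.ncard := by
  have hsub : ∀ x, (A ⊓ cj x A).subgroupOf N = (cj x A).subgroupOf N := by
    intro x
    ext n
    rw [Subgroup.mem_subgroupOf, Subgroup.mem_subgroupOf, mem_inf]
    exact ⟨fun h1 => h1.2, fun h1 => ⟨h.le n.2, h1⟩⟩
  refine Set.ncard_le_ncard_of_injOn (fun M => M.subgroupOf N) ?_ ?_ (Set.toFinite _)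
  · rintro _ ⟨x, hx, rfl⟩
    rw [hsub]; exact hS x hx
  · rintro _ ⟨x, hx, rfl⟩ _ ⟨y, hy, rfl⟩ he
    have he : (A ⊓ cj x A).subgroupOf N = (A ⊓ cj y A).subgroupOf N := he
    rw [hsub, hsub] at he
    exact le_antisymm (h.M0_of_D hy he) (h.M0_of_D hx he.symm)

/-- **the bound** -/
theorem index_le : A.index ≤ 5041 := by
  have hs := h.simple
  refine h.ept.index_le.trans ?_
  have h1 := (h.ncard_le (SN N) (fun x hx => h.mem_SN hx)).trans (ncard_SN h.card)
  calc _ ≤ 71 ^ 2 := Nat.pow_le_pow_left h1 2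
    _ = 5041 := by norm_num

theorem card_le : Nat.card Q ≤ 1693776 := by
  rw [← A.card_mul_index]
  have h1 := h.index_le
  have h2 : Nat.card A ≤ 336 := by rcases h.card_A with h3 | h3 <;> omega
  calc _ ≤ 336 * 5041 := Nat.mul_le_mul h2 h1
    _ = 1693776 := by norm_num

/-! ### the action of `N` on the points -/

omit h in
/-- if all stabilizers have order `d`, the group order divides `d` times the number of points -/
theorem dvd_of_stab {G X : Type*} [Group G] [Finite G] [MulAction G X] [Finite X] (d : ℕ) :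
    Nat.card G ∣ d * Nat.card {c : X // Nat.card (MulAction.stabilizer G c) = d} := by
  classical
  let Y : SubMulAction G X :=
    { carrier := {c | Nat.card (MulAction.stabilizer G c) = d}
      smul_mem' := by
        intro g c hc
        change Nat.card (MulAction.stabilizer G (g • c)) = d
        rw [← hc]
        exact Nat.card_congr (MulAction.stabilizerEquivStabilizer (g := g) rfl).symm.toEquiv }
  have hY : ∀ y : Y, Nat.card (MulAction.stabilizer G y) = d := by
    intro y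
    rw [SubMulAction.stabilizer_of_subMul]
    exact y.2
  change Nat.card G ∣ d * Nat.card Y
  have := Fintype.ofFinite G
  have := Fintype.ofFinite (MulAction.orbitRel.Quotient G Y)
  rw [Nat.card_congr (MulAction.selfEquivSigmaOrbitsQuotientStabilizer G Y), Nat.card_sigma, Finset.mul_sum]
  refine Finset.dvd_sum fun ω _ => ?_
  have h1 := (MulAction.stabilizer G ω.out).card_mul_index
  rw [hY] at h1
  exact ⟨1, by rw [mul_one]; exact h1⟩

omit h in
theorem stab_eq (x : Q) : MulAction.stabilizer N ((x : Q) : Q ⧸ A) = (cj x A).subgroupOf N := by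
  ext n
  rw [MulAction.mem_stabilizer_iff, Subgroup.mem_subgroupOf, mem_cj]
  change ((((n : Q) * x : Q) : Q ⧸ A) = x) ↔ _
  rw [eq_comm, QuotientGroup.eq, mul_assoc]

theorem card_D {x : Q} (hx : x ∉ A) : Nat.card ((cj x A).subgroupOf N) = 6 ∨ Nat.card ((cj x A).subgroupOf N) = 8 ∨
    Nat.card ((cj x A).subgroupOf N) = 21 ∨ Nat.card ((cj x A).subgroupOf N) = 24 := by
  have hs := h.simple
  exact selfnorm_card h.card (h.mem_SN hx).1 (h.mem_SN hx).2

theorem card_D_mem {x : Q} (hx : x ∈ A) : Nat.card ((cj x A).subgroupOf N) = 168 := by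
  rw [cj_eq_self hx, Subgroup.subgroupOf_eq_top.mpr h.le, Subgroup.card_top, h.card]

omit h in
/-- the number of points with stabilizer of order `d` in `N` -/
noncomputable def np (A N : Subgroup Q) (d : ℕ) : ℕ :=
  Nat.card {c : Q ⧸ A // Nat.card (MulAction.stabilizer N c) = d}

theorem np_dvd (d k : ℕ) (hd : 0 < d) (hk : d * k = 168) : k ∣ np A N d := by
  have h1 := dvd_of_stab (G := N) (X := Q ⧸ A) d
  rw [h.card, ← hk] at h1
  exact Nat.dvd_of_mul_dvd_mul_left hd h1

theorem np_one : np A N 168 = 1 := by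
  unfold np
  rw [Nat.card_eq_one_iff_unique]
  constructor
  · constructor
    have key : ∀ c : Q ⧸ A, Nat.card (MulAction.stabilizer N c) = 168 → c = ((1 : Q) : Q ⧸ A) := by
      intro c hc
      induction c using QuotientGroup.induction_on with
      | H x =>
        rw [stab_eq] at hc
        by_cases hx : x ∈ A
        · rw [eq_comm, QuotientGroup.eq, inv_one, one_mul]; exact hx
        · exfalso
          rcases h.card_D hx with h1 | h1 | h1 | h1 <;> omega
    rintro ⟨c, hc⟩ ⟨d, hd⟩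
    apply Subtype.ext
    change c = d
    rw [key c hc, key d hd]
  · exact ⟨⟨((1 : Q) : Q ⧸ A), by rw [stab_eq]; exact h.card_D_mem A.one_mem⟩⟩

theorem index_eq : A.index = 1 + np A N 6 + np A N 8 + np A N 21 + np A N 24 := by
  classical
  have := Fintype.ofFinite (Q ⧸ A)
  have h1 : A.index = (Finset.univ : Finset (Q ⧸ A)).card := by
    rw [Finset.card_univ, ← Nat.card_eq_fintype_card]; rfl
  have h2 := Finset.card_eq_sum_card_fiberwise (s := (Finset.univ : Finset (Q ⧸ A)))
    (t := ({168, 6, 8, 21, 24} : Finset ℕ)) (f := fun c => Nat.card (MulAction.stabilizer N c)) (by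
      intro c _
      induction c using QuotientGroup.induction_on with
      | H x =>
        change Nat.card (MulAction.stabilizer N (x : Q ⧸ A)) ∈ _
        rw [stab_eq]
        by_cases hx : x ∈ A
        · rw [h.card_D_mem hx]; simp
        · rcases h.card_D hx with h3 | h3 | h3 | h3 <;> rw [h3] <;> simp)
  have h3 : ∀ d, (Finset.univ.filter (fun c : Q ⧸ A => Nat.card (MulAction.stabilizer N c) = d)).card = np A N d := by
    intro d
    unfold np
    rw [Nat.card_eq_fintype_card, Fintype.card_subtype]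
  rw [h1, h2]
  simp only [h3]
  rw [Finset.sum_insert (by decide), Finset.sum_insert (by decide), Finset.sum_insert (by decide),
    Finset.sum_insert (by decide), Finset.sum_singleton, h.np_one]
  ring

theorem exists_of_np {d : ℕ} (hd : d ≠ 168) (hn : np A N d ≠ 0) : ∃ x, x ∉ A ∧ Nat.card ((cj x A).subgroupOf N) = d := by
  obtain ⟨⟨c, hc⟩⟩ := (Nat.card_ne_zero.mp hn).1
  induction c using QuotientGroup.induction_on with
  | H x =>
    rw [stab_eq] at hc
    refine ⟨x, ?_, hc⟩
    intro hx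
    rw [h.card_D_mem hx] at hc
    exact hd hc.symm

/-- the case of index 18 and 36 -/
theorem tight_counts (hQ : Nat.card Q = 6048) : Nat.card A = 168 ∧
    (np A N 24 = 35 ∨ (np A N 24 ≠ 0 ∧ (np A N 6 ≠ 0 ∨ np A N 8 ≠ 0))) := by
  have h0 := A.card_mul_index
  have h1 := h.index_eq
  obtain ⟨a, ha⟩ := h.np_dvd 6 28 (by norm_num) (by norm_num)
  obtain ⟨b, hb⟩ := h.np_dvd 8 21 (by norm_num) (by norm_num)
  obtain ⟨c, hc⟩ := h.np_dvd 21 8 (by norm_num) (by norm_num)
  obtain ⟨d, hd⟩ := h.np_dvd 24 7 (by norm_num) (by norm_num)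
  rw [hQ] at h0
  rcases h.card_A with h2 | h2
  · refine ⟨h2, ?_⟩
    rw [h2] at h0
    have h3 : A.index = 36 := by omega
    omega
  · exfalso
    rw [h2] at h0
    have h3 : A.index = 18 := by omega
    omega

/-- the automorphism of `N` induced by `σ ∈ Γ` -/
def rs {σ : MulAut Q} (hσ : σ ∈ Γ) : MulAut N where
  toFun n := ⟨σ n, h.inv hσ n.2⟩
  invFun n := ⟨σ⁻¹ n, h.inv (Γ.inv_mem hσ) n.2⟩
  left_inv n := Subtype.ext (MulAut.inv_apply_self Q σ n)
  right_inv n := Subtype.ext (MulAut.apply_inv_self Q σ n)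
  map_mul' a b := Subtype.ext (map_mul σ (a : Q) b)

theorem rs_val {σ : MulAut Q} (hσ : σ ∈ Γ) (n : N) : ((h.rs hσ n : N) : Q) = σ n := rfl

omit [Finite Q] h in
theorem conj_in {G : Type*} [Group G] [Finite G] {p : ℕ} [Fact p.Prime] {M : Subgroup G} {P R : Sylow p G}
    (hP : (P : Subgroup G) ≤ M) (hR : (R : Subgroup G) ≤ M) : ∃ m ∈ M, m • P = R := by
  obtain ⟨m, hm⟩ := MulAction.exists_smul_eq M (P.subtype hP) (R.subtype hR)
  rw [Sylow.smul_subtype] at hm
  exact ⟨m, m.2, Sylow.subtype_injective hm⟩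

/-- a point whose stabilizer in `N` is the normalizer of a Sylow subgroup contained in a larger stabilizer: impossible -/
theorem bad_pair {x₁ x₂ : Q} (h1 : x₁ ∉ A) (h2 : x₂ ∉ A) {p : ℕ} [Fact p.Prime] (P : Sylow p N)
    (hD : (cj x₁ A).subgroupOf N = normalizer (P : Set N)) (hPM : (P : Subgroup N) ≤ (cj x₂ A).subgroupOf N)
    (hNM : normalizer (P : Set N) ≤ (cj x₂ A).subgroupOf N)
    (hne : Nat.card (normalizer (P : Set N)) < Nat.card ((cj x₂ A).subgroupOf N)) : False := by
  -- the stabilizer of the second point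
  let L : Subgroup (MulAut Q) :=
    { carrier := {σ | σ ∈ Γ ∧ x₂⁻¹ * σ x₂ ∈ A}
      one_mem' := ⟨Γ.one_mem, by rw [MulAut.one_apply, inv_mul_cancel]; exact A.one_mem⟩
      mul_mem' := by
        rintro σ τ ⟨hσ, hσx⟩ ⟨hτ, hτx⟩
        refine ⟨Γ.mul_mem hσ hτ, ?_⟩
        have e : x₂⁻¹ * (σ * τ) x₂ = (x₂⁻¹ * σ x₂) * σ (x₂⁻¹ * τ x₂) := by
          rw [MulAut.mul_apply, map_mul, map_inv]; group
        rw [e]
        exact A.mul_mem hσx ((h.ept.inv σ hσ _).2 hτx)
      inv_mem' := by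
        rintro σ ⟨hσ, hσx⟩
        refine ⟨Γ.inv_mem hσ, ?_⟩
        have h3 := (h.ept.inv _ (Γ.inv_mem hσ) _).2 (A.inv_mem hσx)
        have e4 : σ⁻¹ (x₂⁻¹ * σ x₂)⁻¹ = x₂⁻¹ * σ⁻¹ x₂ := by
          rw [mul_inv_rev, map_mul, map_inv, MulAut.inv_apply_self, inv_inv]
        rwa [e4] at h3 }
  have hLΓ : L ≤ Γ := fun σ hσ => hσ.1
  have hcard : Nat.card P ≤ Nat.card P := le_rfl
  rcases h.ept.two x₁ h1 L hLΓ (by
    intro σ hσ hσx
    refine ⟨hσ, ?_⟩
    -- `σ` fixes `P`
    have hσP : h.rs hσ • P = P := by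
      have h3 : ((h.rs hσ • P : Sylow p N) : Subgroup N) ≤ normalizer (P : Set N) := by
        rw [← hD, Sylow.pointwise_smul_def]
        rintro _ ⟨y, hy, rfl⟩
        have hy2 : y ∈ (cj x₁ A).subgroupOf N := by rw [hD]; exact le_normalizer hy
        exact (mem_inf.1 (h.D_inv hσ hσx ⟨y.2, hy2⟩)).2
      have h4 := (h.rs hσ • P : Sylow p N).2.inf_normalizer_sylow P
      rw [inf_eq_left.2 h3, eq_comm, inf_eq_left] at h4
      exact Sylow.ext (Subgroup.eq_of_le_of_card_ge h4 (by
        exact (Nat.card_congr (Sylow.equiv P (h.rs hσ • P)).toEquiv).le))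
    obtain ⟨k, hk, τ, hτ, hτx, e⟩ := h.ept.fac h.le (fun _ hτ _ hn => h.inv hτ hn) h.ne_bot h2 hσ
    have hτP : ((h.rs hτ • P : Sylow p N) : Subgroup N) ≤ (cj x₂ A).subgroupOf N := by
      rw [Sylow.pointwise_smul_def]
      rintro _ ⟨y, hy, rfl⟩
      exact (mem_inf.1 (h.D_inv hτ hτx ⟨y.2, hPM hy⟩)).2
    obtain ⟨m, hm, hmP⟩ := conj_in hPM hτP
    have hrs : h.rs hσ = MulAut.conj (⟨k, hk⟩ : N) * h.rs hτ := by
      ext n
      change σ n = k * τ n * k⁻¹
      rw [e]; rfl
    have h5 : ((⟨k, hk⟩ : N) * m) • P = P := by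
      rw [mul_smul, hmP, Sylow.smul_def, ← mul_smul, ← hrs, hσP]
    have h6 : (⟨k, hk⟩ : N) * m ∈ (cj x₂ A).subgroupOf N := hNM (Sylow.smul_eq_iff_mem_normalizer.mp h5)
    have h7 : (⟨k, hk⟩ : N) ∈ (cj x₂ A).subgroupOf N := (Subgroup.mul_mem_cancel_right _ hm).1 h6
    have h8 : k ∈ cj x₂ A := h7
    have h9 := (h.ept.conj_stab (h.le hk)).2 h8
    have e10 : x₂⁻¹ * σ x₂ = (x₂⁻¹ * MulAut.conj k x₂) * MulAut.conj k (x₂⁻¹ * τ x₂) := by
      rw [e, MulAut.mul_apply, map_mul, map_inv]; group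
    rw [e10]
    exact A.mul_mem h9 ((h.ept.inv _ ((h.ept.conj k).2 (h.le hk)) _).2 hτx)) with h3 | h3
  · apply h.not_le h2
    intro n hn
    have h4 : MulAut.conj n ∈ L := by rw [h3]; exact (h.ept.conj n).2 (h.le hn)
    exact (h.ept.conj_stab (h.le hn)).1 h4.2
  · have h4 : (cj x₂ A).subgroupOf N ≤ normalizer (P : Set N) := by
      rw [← hD]
      intro n hn
      have h5 : MulAut.conj (n : Q) ∈ L := ⟨(h.ept.conj _).2 (h.le n.2), (h.ept.conj_stab (h.le n.2)).2 hn⟩
      exact (h.ept.conj_stab (h.le n.2)).1 (h3 _ h5)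
    have := Subgroup.card_le_of_le h4
    omega

/-- moving a point -/
theorem D_smul (x : Q) (n : N) : (cj ((n : Q) * x) A).subgroupOf N = MulAut.conj n • (cj x A).subgroupOf N := by
  ext y
  rw [Subgroup.mem_subgroupOf, cj_mul, mem_cj, Subgroup.mem_pointwise_smul_iff_inv_smul_mem, Subgroup.mem_subgroupOf]
  rfl

omit [Finite Q] h in
theorem exists_sylow_in {G : Type*} [Group G] [Finite G] {p k : ℕ} [Fact p.Prime] {M : Subgroup G}
    (hM : p ^ k ∣ Nat.card M) (hk : ¬ p ^ (k + 1) ∣ Nat.card G) : ∃ P : Sylow p G, (P : Subgroup G) ≤ M := by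
  obtain ⟨K, hK⟩ := Sylow.exists_subgroup_card_pow_prime p hM
  obtain ⟨P, hP⟩ := exists_sylow_eq (D := K.map M.subtype) (k := k)
    (by rw [Subgroup.card_map_of_injective (Subgroup.subtype_injective M)]; exact hK) hk
  exact ⟨P, by rw [hP]; exact Subgroup.map_subtype_le _⟩

omit [Finite Q] h in
theorem normalizer_smul {G : Type*} [Group G] {p : ℕ} (n : G) (P : Sylow p G) :
    MulAut.conj n • normalizer (P : Set G) = normalizer ((n • P : Sylow p G) : Set G) := by
  ext g
  rw [Subgroup.mem_pointwise_smul_iff_inv_smul_mem, ← Sylow.smul_eq_iff_mem_normalizer,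
    ← Sylow.smul_eq_iff_mem_normalizer]
  have e : (MulAut.conj n)⁻¹ • g = n⁻¹ * g * n := by
    rw [← map_inv]
    change n⁻¹ * g * n⁻¹⁻¹ = _
    rw [inv_inv]
  rw [e, mul_smul, mul_smul, inv_smul_eq_iff]

theorem smul_notMem {x : Q} (hx : x ∉ A) (n : N) : (n : Q) * x ∉ A := fun hn =>
  hx ((A.mul_mem_cancel_left (h.le n.2)).1 hn)

/-- moving the first point such that its stabilizer is the normalizer of a given Sylow subgroup -/
theorem move {x : Q} (hx : x ∉ A) {p : ℕ} [Fact p.Prime] {P R : Sylow p N}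
    (hD : (cj x A).subgroupOf N = normalizer (P : Set N)) :
    ∃ y, y ∉ A ∧ (cj y A).subgroupOf N = normalizer (R : Set N) := by
  obtain ⟨n, hn⟩ := MulAction.exists_smul_eq N P R
  exact ⟨n * x, h.smul_notMem hx n, by rw [h.D_smul, hD, normalizer_smul, hn]⟩

theorem no_eight {x₁ x₂ : Q} (h1 : x₁ ∉ A) (h2 : x₂ ∉ A) (hc1 : Nat.card ((cj x₁ A).subgroupOf N) = 8)
    (hc2 : Nat.card ((cj x₂ A).subgroupOf N) = 24) : False := by
  have f2 : Fact (Nat.Prime 2) := ⟨by norm_num⟩
  have hs := h.simple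
  obtain ⟨P, hP⟩ := exists_sylow_eq (p := 2) (k := 3) (D := (cj x₁ A).subgroupOf N) hc1 (by rw [h.card]; norm_num)
  obtain ⟨R, hR⟩ := exists_sylow_in (p := 2) (k := 3) (M := (cj x₂ A).subgroupOf N) (by rw [hc2]; norm_num)
    (by rw [h.card]; norm_num)
  have hself : ∀ P : Sylow 2 N, (P : Subgroup N) = normalizer (P : Set N) := by
    intro P
    refine Subgroup.eq_of_le_of_card_ge le_normalizer ?_
    have h3 : (8 : ℕ) ≤ Nat.card P := by
      have h4 := (Sylow.card_eq_multiplicity P)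
      rw [h4, h.card]
      have : (3 : ℕ) ≤ (168 : ℕ).factorization 2 :=
        (Nat.Prime.pow_dvd_iff_le_factorization (by norm_num) (by norm_num)).mp (by norm_num)
      calc 8 = 2 ^ 3 := by norm_num
        _ ≤ _ := Nat.pow_le_pow_right (by norm_num) this
    have h5 := card_norm2 h.card P
    exact h5.le.trans h3
  obtain ⟨y, hy, hyD⟩ := h.move h1 (P := P) (R := R) (by rw [← hself P, hP])
  exact h.bad_pair hy h2 R hyD hR (by rw [← hself R]; exact hR) (by rw [card_norm2 h.card R, hc2]; norm_num)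

theorem no_six {x₁ x₂ : Q} (h1 : x₁ ∉ A) (h2 : x₂ ∉ A) (hc1 : Nat.card ((cj x₁ A).subgroupOf N) = 6)
    (hc2 : Nat.card ((cj x₂ A).subgroupOf N) = 24) : False := by
  have f3 : Fact (Nat.Prime 3) := ⟨by norm_num⟩
  have hs := h.simple
  obtain ⟨P, hP, -⟩ := eq6 h.card hc1
  obtain ⟨R, hR⟩ := exists_sylow_in (p := 3) (k := 1) (M := (cj x₂ A).subgroupOf N) (by rw [hc2]; norm_num)
    (by rw [h.card]; norm_num)
  obtain ⟨y, hy, hyD⟩ := h.move h1 (P := P) (R := R) hP
  have hn6 := card_norm3 h.card R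
  refine h.bad_pair hy h2 R hyD hR ?_ (by rw [hn6, hc2]; norm_num)
  -- the normalizer of `R` in the group of order 24 has order 6
  generalize (cj x₂ A).subgroupOf N = M at hc2 hR
  set S : Sylow 3 M := R.subtype hR with hS
  have hle : (normalizer (S : Set M)).map M.subtype ≤ normalizer (R : Set N) := by
    rintro _ ⟨m, hm, rfl⟩
    have h3 := Sylow.smul_eq_iff_mem_normalizer.mpr hm
    rw [hS, Sylow.smul_subtype] at h3
    exact Sylow.smul_eq_iff_mem_normalizer.mp (Sylow.subtype_injective h3)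
  have hc3 : Nat.card ((normalizer (S : Set M)).map M.subtype) = Nat.card (normalizer (S : Set M)) :=
    Subgroup.card_map_of_injective (Subgroup.subtype_injective M)
  have h4 := (normalizer (S : Set M)).card_mul_index
  rw [← S.card_eq_index_normalizer, hc2] at h4
  have h5 := card_sylow_modEq_one 3 M
  have h6 : Nat.card (Sylow 3 M) ∣ 24 := ⟨_, by rw [mul_comm]; exact h4.symm⟩
  have h7 : Nat.card (normalizer (S : Set M)) ≤ 6 := by
    rw [← hc3, ← hn6]; exact Subgroup.card_le_of_le hle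
  have h8 : Nat.card (normalizer (S : Set M)) = 6 := by
    have h9 : Nat.card (Sylow 3 M) ∈ Nat.divisors 24 := Nat.mem_divisors.mpr ⟨h6, by norm_num⟩
    have key : ∀ n ∈ Nat.divisors 24, n % 3 = 1 → n = 1 ∨ n = 4 := by decide
    rcases key _ h9 h5 with h10 | h10
    · rw [h10] at h4; omega
    · rw [h10] at h4; omega
  have h9 : (normalizer (S : Set M)).map M.subtype = normalizer (R : Set N) :=
    Subgroup.eq_of_le_of_card_ge hle (by rw [hc3, h8, hn6])
  rw [← h9]
  exact Subgroup.map_subtype_le _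

omit [Finite Q] h in
theorem inv_S4 : Nat.card {g : Equiv.Perm (Fin 4) // orderOf g = 2} = 9 := by
  have h2 : ∀ g : Equiv.Perm (Fin 4), orderOf g = 2 ↔ (g * g = 1 ∧ g ≠ 1) := by
    intro g
    have : Fact (Nat.Prime 2) := ⟨by norm_num⟩
    rw [orderOf_eq_prime_iff, pow_two]
  rw [Nat.card_congr (Equiv.subtypeEquivRight h2), Nat.card_eq_fintype_card]
  decide +kernel

/-- **the tight case** -/
theorem tight : Nat.card Q ≠ 6048 := by
  classical
  intro hQ
  obtain ⟨hA, hcase⟩ := h.tight_counts hQ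
  have hs := h.simple
  rcases hcase with h24 | ⟨h24, h68⟩
  · have hidx : A.index = 36 := by
      have := A.card_mul_index
      rw [hA, hQ] at this
      omega
    have heq := h.index_eq
    have hall : ∀ x, x ∉ A → Nat.card ((cj x A).subgroupOf N) = 24 := by
      intro x hx
      have hpos : ∀ d, Nat.card ((cj x A).subgroupOf N) = d → np A N d ≠ 0 := by
        intro d hd
        unfold np
        have : Nonempty {c : Q ⧸ A // Nat.card (MulAction.stabilizer N c) = d} :=
          ⟨⟨(x : Q ⧸ A), by rw [stab_eq]; exact hd⟩⟩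
        exact Nat.card_pos.ne'
      rcases h.card_D hx with h3 | h3 | h3 | h3
      · have := hpos 6 h3; omega
      · have := hpos 8 h3; omega
      · have := hpos 21 h3; omega
      · exact h3
    have := Fintype.ofFinite (Q ⧸ A)
    have := Fintype.ofFinite N
    have hdc := Finset.sum_card_bipartiteAbove_eq_sum_card_bipartiteBelow
      (s := (Finset.univ : Finset (Q ⧸ A))) (t := (Finset.univ.filter (fun t : N => orderOf t = 2)))
      (fun c t => t • c = c)
    have hinvN : (Finset.univ.filter (fun t : N => orderOf t = 2)).card = 21 := by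
      rw [← (Cfsg.Agent.S1005.result h.card).2.1, Nat.card_eq_fintype_card, Fintype.card_subtype]
    have hup : ∑ t ∈ Finset.univ.filter (fun t : N => orderOf t = 2),
        ((Finset.univ : Finset (Q ⧸ A)).bipartiteBelow (fun c t => t • c = c) t).card ≤ 21 * 14 := by
      rw [← hinvN, ← smul_eq_mul]
      refine Finset.sum_le_card_nsmul _ _ _ ?_
      intro t ht
      have ht2 : orderOf t = 2 := (Finset.mem_filter.mp ht).2
      have ht1 : (t : Q) ≠ 1 := by
        intro e
        have : t = 1 := Subtype.ext e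
        rw [this, orderOf_one] at ht2
        omega
      have h3 := h.ept.fix_le t ht1
      have h4 := (h.ncard_le {D : Subgroup N | Nat.card D = 24} hall).trans (ncard24 h.card)
      refine le_trans ?_ (h3.trans h4)
      rw [Set.ncard_eq_toFinset_card']
      apply Finset.card_le_card
      intro c hc
      rw [Finset.mem_bipartiteBelow] at hc
      rw [Set.mem_toFinset]
      exact hc.2
    have hlow : 21 + 35 * 9 ≤ ∑ c : Q ⧸ A,
        ((Finset.univ.filter (fun t : N => orderOf t = 2)).bipartiteAbove (fun c t => t • c = c) c).card := by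
      have hval : ∀ c : Q ⧸ A, ((Finset.univ.filter (fun t : N => orderOf t = 2)).bipartiteAbove
          (fun c t => t • c = c) c).card = Nat.card {g : MulAction.stabilizer N c // orderOf g = 2} := by
        intro c
        rw [← Fintype.card_coe, ← Nat.card_eq_fintype_card]
        refine Nat.card_congr ⟨fun t => ⟨⟨t.1, (Finset.mem_filter.mp t.2).2⟩, ?_⟩,
          fun g => ⟨g.1.1, Finset.mem_filter.mpr ⟨Finset.mem_filter.mpr ⟨Finset.mem_univ _, ?_⟩, g.1.2⟩⟩, ?_, ?_⟩
        · rw [← Subgroup.orderOf_coe]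
          exact (Finset.mem_filter.mp (Finset.mem_filter.mp t.2).1).2
        · have := g.2
          rw [← Subgroup.orderOf_coe] at this
          exact this
        · intro t; rfl
        · intro g; rfl
      simp only [hval]
      have hone : Nat.card {g : MulAction.stabilizer N ((1 : Q) : Q ⧸ A) // orderOf g = 2} = 21 := by
        rw [← (Cfsg.Agent.S1005.result h.card).2.1]
        have e1 : MulAction.stabilizer N ((1 : Q) : Q ⧸ A) = ⊤ := by
          rw [stab_eq, cj_eq_self A.one_mem]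
          exact Subgroup.subgroupOf_eq_top.mpr h.le
        rw [e1]
        refine Nat.card_congr (Equiv.subtypeEquiv Subgroup.topEquiv.toEquiv ?_)
        intro g
        have := orderOf_injective (Subgroup.topEquiv (G := N)).toMonoidHom (Subgroup.topEquiv (G := N)).injective g
        exact (Eq.congr_left this).symm
      have hnine : ∀ c : Q ⧸ A, c ≠ ((1 : Q) : Q ⧸ A) →
          Nat.card {g : MulAction.stabilizer N c // orderOf g = 2} = 9 := by
        intro c hc
        induction c using QuotientGroup.induction_on with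
        | H x =>
          have hx : x ∉ A := by
            intro hx
            apply hc
            rw [eq_comm, QuotientGroup.eq, inv_one, one_mul]; exact hx
          rw [stab_eq]
          have h24x := hall x hx
          generalize (cj x A).subgroupOf N = D at h24x
          have hDt : D ≠ ⊤ := by
            rintro rfl
            rw [Subgroup.card_top, h.card] at h24x
            omega
          obtain ⟨M, hM, hDM⟩ := exists_coatom hDt
          have hM24 : Nat.card M = 24 := by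
            rcases coatom_card h.card hM with h5 | h5
            · exact h5
            · have := Subgroup.card_dvd_of_le hDM
              rw [h24x, h5] at this
              omega
          have hDM' : D = M := Subgroup.eq_of_le_of_card_ge hDM (by rw [hM24, h24x])
          rcases (Cfsg.Agent.S1008.result h.card).1 D (hDM' ▸ hM) with ⟨⟨e⟩⟩ | ⟨h5, -⟩
          · rw [← inv_S4]
            refine Nat.card_congr (Equiv.subtypeEquiv e.toEquiv ?_)
            intro g
            have := orderOf_injective e.toMonoidHom e.injective g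
            exact (Eq.congr_left this).symm
          · omega
      rw [← Finset.add_sum_erase _ _ (Finset.mem_univ ((1 : Q) : Q ⧸ A)), hone,
        Finset.sum_congr rfl (fun c hc => hnine c (Finset.ne_of_mem_erase hc)), Finset.sum_const,
        Finset.card_erase_of_mem (Finset.mem_univ _), Finset.card_univ, ← Nat.card_eq_fintype_card]
      have : Nat.card (Q ⧸ A) = 36 := hidx
      rw [this]
      norm_num
    rw [hdc] at hlow
    omega
  · obtain ⟨x₂, hx₂, hc₂⟩ := h.exists_of_np (by norm_num) h24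
    rcases h68 with h6 | h8
    · obtain ⟨x₁, hx₁, hc₁⟩ := h.exists_of_np (by norm_num) h6
      exact h.no_six hx₁ hx₂ hc₁ hc₂
    · obtain ⟨x₁, hx₁, hc₁⟩ := h.exists_of_np (by norm_num) h8
      exact h.no_eight hx₁ hx₂ hc₁ hc₂

end Soc

end Cfsg.Agent.H689.EP
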