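import Mathlib
import Cfsg.Agent.S1003
import Cfsg.Agent.S1005
import Cfsg.Agent.S1008
import Cfsg.Agent.S2602
import Cfsg.Agent.S0495

/-!
# Task 5941 (S3499-IV-L `L₂(7)`): self-normalizing subgroups of the simple group of order 168 (helper689)
-/

set_option autoImplicit false

namespace Cfsg.Agent.H689.EP

open Subgroup

section
variable {G : Type*} [Group G] [Finite G]

/-- a class of conjugate subgroups -/
theorem ncard_conj_le (M : Subgroup G) :
    {D : Subgroup G | ∃ g : G, D = M.map (MulAut.conj g).toMonoidHom}.ncard ≤ M.index := by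
  classical
  let f : G ⧸ M → Subgroup G := fun c => M.map (MulAut.conj c.out).toMonoidHom
  have h1 : {D : Subgroup G | ∃ g : G, D = M.map (MulAut.conj g).toMonoidHom} ⊆ Set.range f := by
    rintro _ ⟨g, rfl⟩
    refine ⟨(g : G ⧸ M), ?_⟩
    obtain ⟨m, hm⟩ := QuotientGroup.mk_out_eq_mul M g
    change M.map (MulAut.conj (Quotient.out (g : G ⧸ M))).toMonoidHom = _
    rw [hm]
    ext y
    simp only [Subgroup.mem_map, MulEquiv.coe_toMonoidHom, MulAut.conj_apply]
    constructor
    · rintro ⟨z, hz, rfl⟩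
      exact ⟨m * z * (m : G)⁻¹, M.mul_mem (M.mul_mem m.2 hz) (M.inv_mem m.2), by group⟩
    · rintro ⟨z, hz, rfl⟩
      exact ⟨(m : G)⁻¹ * z * m, M.mul_mem (M.mul_mem (M.inv_mem m.2) hz) m.2, by group⟩
  calc _ ≤ (Set.range f).ncard := Set.ncard_le_ncard h1 (Set.toFinite _)
    _ ≤ Nat.card (G ⧸ M) := by
      rw [← Set.image_univ]
      refine (Set.ncard_image_le (Set.toFinite _)).trans ?_
      rw [Set.ncard_univ]
    _ = M.index := rfl

theorem exists_coatom {D : Subgroup G} (hD : D ≠ ⊤) : ∃ M : Subgroup G, IsCoatom M ∧ D ≤ M := by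
  rcases eq_top_or_exists_le_coatom D with h | h
  · exact absurd h hD
  · exact h

end

section
variable {G : Type*} [Group G] [Finite G] [IsSimpleGroup G] (h : Nat.card G = 168)
include h

theorem coatom_card {M : Subgroup G} (hM : IsCoatom M) : Nat.card M = 24 ∨ Nat.card M = 21 := by
  rcases (Cfsg.Agent.S1008.result h).1 M hM with ⟨⟨e⟩⟩ | ⟨h1, -⟩
  · left
    rw [Nat.card_congr e.toEquiv, Nat.card_perm, Nat.card_eq_fintype_card, Fintype.card_fin]
    rfl
  · right; exact h1

omit [IsSimpleGroup G] in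
theorem card_norm {p n : ℕ} [Fact p.Prime] (hn : Nat.card (Sylow p G) * n = 168) (P : Sylow p G) :
    Nat.card (normalizer (P : Set G)) = n := by
  have h1 := (normalizer (P : Set G)).card_mul_index
  rw [← P.card_eq_index_normalizer, h, ← hn, mul_comm] at h1
  have h2 : 0 < Nat.card (Sylow p G) := Nat.card_pos
  exact Nat.eq_of_mul_eq_mul_left h2 h1

theorem card_norm7 [Fact (Nat.Prime 7)] (P : Sylow 7 G) : Nat.card (normalizer (P : Set G)) = 21 :=
  card_norm h (by rw [(Cfsg.Agent.S1003.result h).2.2]) P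

theorem card_norm3 [Fact (Nat.Prime 3)] (P : Sylow 3 G) : Nat.card (normalizer (P : Set G)) = 6 :=
  card_norm h (by rw [(Cfsg.Agent.S1003.result h).2.1]) P

theorem card_norm2 [Fact (Nat.Prime 2)] (P : Sylow 2 G) : Nat.card (normalizer (P : Set G)) = 8 :=
  card_norm h (by rw [(Cfsg.Agent.S1003.result h).1]) P

omit [IsSimpleGroup G] h in
/-- a subgroup of full prime power order is a Sylow subgroup -/
theorem exists_sylow_eq {p k : ℕ} [Fact p.Prime] {D : Subgroup G} (hD : Nat.card D = p ^ k)
    (hk : ¬ p ^ (k + 1) ∣ Nat.card G) : ∃ P : Sylow p G, (P : Subgroup G) = D := by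
  obtain ⟨P, hP⟩ := (IsPGroup.of_card hD).exists_le_sylow
  refine ⟨P, (Subgroup.eq_of_le_of_card_ge hP ?_).symm⟩
  obtain ⟨i, hi⟩ := IsPGroup.iff_card.mp P.2
  have h1 : Nat.card P ∣ Nat.card G := Subgroup.card_subgroup_dvd_card _
  rw [hi] at h1
  have h2 : i ≤ k := by
    by_contra hlt
    push Not at hlt
    exact hk ((pow_dvd_pow p hlt).trans h1)
  rw [hD, hi]
  exact Nat.pow_le_pow_right (Fact.out : p.Prime).pos h2

omit [IsSimpleGroup G] h in
/-- a subgroup of prime power order is contained in a larger normalizer -/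
theorem grow {p k : ℕ} [Fact p.Prime] {D : Subgroup G} (hD : Nat.card D = p ^ k)
    (hk : p ^ (k + 1) ∣ Nat.card G) : ¬ normalizer (D : Set G) ≤ D := by
  intro hle
  have h1 := Sylow.prime_pow_dvd_card_normalizer hk hD
  have h2 := h1.trans (Subgroup.card_dvd_of_le hle)
  rw [hD] at h2
  have h3 := (Nat.pow_dvd_pow_iff_le_right (Fact.out : p.Prime).one_lt).mp h2
  omega

omit [IsSimpleGroup G] h in
/-- a subgroup of index two of a subgroup -/
theorem norm_of_two {D M : Subgroup G} (hDM : D ≤ M) (h2 : Nat.card M = 2 * Nat.card D) :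
    M ≤ normalizer (D : Set G) := by
  have h3 : D.relIndex M = 2 := by
    have := Subgroup.relIndex_mul_relIndex ⊥ D M bot_le hDM
    rw [relIndex_bot_left, relIndex_bot_left, h2, mul_comm] at this
    exact Nat.eq_of_mul_eq_mul_right Nat.card_pos this
  have h4 : (D.subgroupOf M).Normal := Subgroup.normal_of_index_eq_two h3
  exact Subgroup.normal_subgroupOf_iff_le_normalizer hDM |>.mp h4

/-- **orders of self-normalizing subgroups** -/
theorem selfnorm_card {D : Subgroup G} (hD : D ≠ ⊤) (hself : normalizer (D : Set G) ≤ D) :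
    Nat.card D = 6 ∨ Nat.card D = 8 ∨ Nat.card D = 21 ∨ Nat.card D = 24 := by
  have f2 : Fact (Nat.Prime 2) := ⟨by norm_num⟩
  have f3 : Fact (Nat.Prime 3) := ⟨by norm_num⟩
  have f7 : Fact (Nat.Prime 7) := ⟨by norm_num⟩
  obtain ⟨M, hM, hDM⟩ := exists_coatom hD
  have hdvd := Subgroup.card_dvd_of_le hDM
  have h1 : Nat.card D ≠ 1 := by
    intro h1
    have h2 : D = ⊥ := Subgroup.card_eq_one.mp h1
    apply hD
    rw [eq_top_iff]
    refine le_trans ?_ hself
    intro g _
    rw [h2, Subgroup.mem_normalizer_iff]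
    intro y
    rw [mem_bot, mem_bot]
    constructor
    · rintro rfl; group
    · intro h3
      have : y = g⁻¹ * (g * y * g⁻¹) * g := by group
      rw [this, h3]; group
  have h2 : Nat.card D ≠ 2 := fun h2 => grow (p := 2) (k := 1) h2 (by rw [h]; norm_num) hself
  have h4 : Nat.card D ≠ 4 := fun h2 => grow (p := 2) (k := 2) h2 (by rw [h]; norm_num) hself
  have h3 : Nat.card D ≠ 3 := by
    intro h3
    obtain ⟨P, hP⟩ := exists_sylow_eq (p := 3) (k := 1) h3 (by rw [h]; norm_num)
    have h5 := card_norm3 h P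
    have h6 : (P : Set G) = (D : Set G) := by rw [← hP]; rfl
    rw [h6] at h5
    have := Subgroup.card_le_of_le hself
    omega
  have h7 : Nat.card D ≠ 7 := by
    intro h3
    obtain ⟨P, hP⟩ := exists_sylow_eq (p := 7) (k := 1) h3 (by rw [h]; norm_num)
    have h5 := card_norm7 h P
    have h6 : (P : Set G) = (D : Set G) := by rw [← hP]; rfl
    rw [h6] at h5
    have := Subgroup.card_le_of_le hself
    omega
  rcases coatom_card h hM with hM2 | hM2
  · rw [hM2] at hdvd
    have h12 : Nat.card D ≠ 12 := by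
      intro h12
      have := Subgroup.card_le_of_le ((norm_of_two hDM (by rw [hM2, h12])).trans hself)
      omega
    have h5 : Nat.card D ∈ Nat.divisors 24 := Nat.mem_divisors.mpr ⟨hdvd, by norm_num⟩
    have key : ∀ d ∈ Nat.divisors 24, d = 1 ∨ d = 2 ∨ d = 3 ∨ d = 4 ∨ d = 6 ∨ d = 8 ∨ d = 12 ∨ d = 24 := by decide
    rcases key _ h5 with h6 | h6 | h6 | h6 | h6 | h6 | h6 | h6 <;> omega
  · rw [hM2] at hdvd
    have h5 : Nat.card D ∈ Nat.divisors 21 := Nat.mem_divisors.mpr ⟨hdvd, by norm_num⟩
    have key : ∀ d ∈ Nat.divisors 21, d = 1 ∨ d = 3 ∨ d = 7 ∨ d = 21 := by decide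
    rcases key _ h5 with h6 | h6 | h6 | h6 <;> omega

omit [IsSimpleGroup G] in
/-- a subgroup of order 6 or 21 is the normalizer of a Sylow subgroup -/
theorem eq_normalizer {p n : ℕ} [Fact p.Prime] (hn : ∀ P : Sylow p G, Nat.card (normalizer (P : Set G)) = p * n)
    (hp : ¬ p ^ 2 ∣ 168) (hu : ∀ m, m ∣ n → m % p = 1 → m = 1) {D : Subgroup G} (hD : Nat.card D = p * n) :
    ∃ P : Sylow p G, D = normalizer (P : Set G) ∧ (P : Subgroup G) ≤ D := by
  let P0 : Sylow p D := default
  have hp0 : Nat.card P0 = p := by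
    obtain ⟨i, hi⟩ := IsPGroup.iff_card.mp P0.2
    have h1 : p ^ i ∣ 168 := by
      rw [← hi, ← h]
      exact (Subgroup.card_subgroup_dvd_card _).trans (Subgroup.card_subgroup_dvd_card D)
    have h2 : i < 2 := by
      by_contra hlt
      push Not at hlt
      exact hp ((pow_dvd_pow p hlt).trans h1)
    have h3 : i ≠ 0 := by
      rintro rfl
      rw [pow_zero] at hi
      have h4 := P0.dvd_card_of_dvd_card (by rw [hD]; exact dvd_mul_right p n)
      rw [hi] at h4
      exact (Fact.out : p.Prime).one_lt.ne' (Nat.dvd_one.mp h4)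
    have h4 : i = 1 := by omega
    rw [hi, h4, pow_one]
  have hcard : Nat.card ((P0 : Subgroup D).map D.subtype) = p ^ 1 := by
    rw [Subgroup.card_map_of_injective (Subgroup.subtype_injective D), pow_one]
    exact hp0
  obtain ⟨P, hP⟩ := exists_sylow_eq hcard (by rw [h]; exact hp)
  have hPD : (P : Subgroup G) ≤ D := by
    rw [hP]; exact Subgroup.map_subtype_le _
  have hnorm : (P0 : Subgroup D).Normal := by
    have h1 : Nat.card (Sylow p D) = 1 := by
      apply hu
      · have h2 := P0.card_dvd_index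
        have h3 := (P0 : Subgroup D).card_mul_index
        rw [hD, hp0] at h3
        rw [← Nat.eq_of_mul_eq_mul_left (Fact.out : p.Prime).pos h3]
        exact h2
      · have h2 := card_sylow_modEq_one p D
        rw [Nat.ModEq, Nat.mod_eq_of_lt (Fact.out : p.Prime).one_lt] at h2
        exact h2
    have h2 : Subsingleton (Sylow p D) := (Nat.card_eq_one_iff_unique.mp h1).1
    exact P0.normal_of_subsingleton
  refine ⟨P, ?_, hPD⟩
  refine Subgroup.eq_of_le_of_card_ge ?_ (by rw [hn P, hD])
  have h6 : (P : Set G) = ((P : Subgroup G) : Set G) := rfl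
  rw [h6, hP]
  apply (Subgroup.normal_subgroupOf_iff_le_normalizer (Subgroup.map_subtype_le _)).mp
  have h7 : ((P0 : Subgroup D).map D.subtype).subgroupOf D = P0 :=
    Subgroup.comap_map_eq_self_of_injective (Subgroup.subtype_injective D) _
  rw [h7]
  exact hnorm

/-- the self-normalizing proper subgroups -/
def SN (G : Type*) [Group G] : Set (Subgroup G) := {D | D ≠ ⊤ ∧ normalizer (D : Set G) ≤ D}

theorem ncard24 : {D : Subgroup G | Nat.card D = 24}.ncard ≤ 14 := by
  obtain ⟨h1, -, M₁, M₂, hM₁, hM₂, ⟨e₁⟩, ⟨e₂⟩, -, h4⟩ := Cfsg.Agent.S1008.result h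
  have hsub : {D : Subgroup G | Nat.card D = 24} ⊆
      {D : Subgroup G | ∃ g : G, D = M₁.map (MulAut.conj g).toMonoidHom} ∪
      {D : Subgroup G | ∃ g : G, D = M₂.map (MulAut.conj g).toMonoidHom} := by
    intro D hD
    have hD : Nat.card D = 24 := hD
    have hDt : D ≠ ⊤ := by
      rintro rfl
      rw [Subgroup.card_top, h] at hD
      omega
    obtain ⟨M, hM, hDM⟩ := exists_coatom hDt
    have hM24 : Nat.card M = 24 := by
      rcases coatom_card h hM with h5 | h5
      · exact h5
      · have := Subgroup.card_dvd_of_le hDM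
        rw [hD, h5] at this
        omega
    have hDM' : D = M := Subgroup.eq_of_le_of_card_ge hDM (by rw [hM24, hD])
    have hS4 : Nonempty (D ≃* Equiv.Perm (Fin 4)) := by
      rcases h1 D (hDM' ▸ hM) with h5 | ⟨h5, -⟩
      · exact h5
      · omega
    obtain ⟨g, hg | hg⟩ := h4 D (hDM' ▸ hM) hS4
    · left; exact ⟨g, hg⟩
    · right; exact ⟨g, hg⟩
  have hidx : ∀ M : Subgroup G, Nonempty (M ≃* Equiv.Perm (Fin 4)) → M.index = 7 := by
    rintro M ⟨e⟩
    have h5 : Nat.card M = 24 := by
      rw [Nat.card_congr e.toEquiv, Nat.card_perm, Nat.card_eq_fintype_card, Fintype.card_fin]; rfl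
    have := M.card_mul_index
    rw [h5, h] at this
    omega
  calc _ ≤ _ := Set.ncard_le_ncard hsub (Set.toFinite _)
    _ ≤ _ := Set.ncard_union_le _ _
    _ ≤ 7 + 7 := add_le_add ((ncard_conj_le M₁).trans (hidx M₁ ⟨e₁⟩).le) ((ncard_conj_le M₂).trans (hidx M₂ ⟨e₂⟩).le)
    _ = 14 := rfl

theorem ncard8 : {D : Subgroup G | Nat.card D = 8}.ncard ≤ 21 := by
  have f2 : Fact (Nat.Prime 2) := ⟨by norm_num⟩
  have hsub : {D : Subgroup G | Nat.card D = 8} ⊆ Set.range (fun P : Sylow 2 G => (P : Subgroup G)) := by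
    intro D hD
    obtain ⟨P, hP⟩ := exists_sylow_eq (p := 2) (k := 3) (D := D) hD (by rw [h]; norm_num)
    exact ⟨P, hP⟩
  calc _ ≤ _ := Set.ncard_le_ncard hsub (Set.toFinite _)
    _ ≤ Nat.card (Sylow 2 G) := by
      rw [← Set.image_univ]
      refine (Set.ncard_image_le (Set.toFinite _)).trans ?_
      rw [Set.ncard_univ]
    _ = 21 := (Cfsg.Agent.S1003.result h).1

theorem eq6 [Fact (Nat.Prime 3)] {D : Subgroup G} (hD : Nat.card D = 6) :
    ∃ P : Sylow 3 G, D = normalizer (P : Set G) ∧ (P : Subgroup G) ≤ D :=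
  eq_normalizer (n := 2) h (fun P => card_norm3 h P) (by norm_num)
    (by
      intro m hm hm3
      have := Nat.le_of_dvd (by norm_num) hm
      interval_cases m <;> simp_all) hD

theorem eq21 [Fact (Nat.Prime 7)] {D : Subgroup G} (hD : Nat.card D = 21) :
    ∃ P : Sylow 7 G, D = normalizer (P : Set G) ∧ (P : Subgroup G) ≤ D :=
  eq_normalizer (n := 3) h (fun P => card_norm7 h P) (by norm_num)
    (by
      intro m hm hm3
      have := Nat.le_of_dvd (by norm_num) hm
      interval_cases m <;> simp_all) hD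

theorem ncard6 : {D : Subgroup G | Nat.card D = 6}.ncard ≤ 28 := by
  have f3 : Fact (Nat.Prime 3) := ⟨by norm_num⟩
  have hsub : {D : Subgroup G | Nat.card D = 6} ⊆ Set.range (fun P : Sylow 3 G => normalizer (P : Set G)) := by
    intro D hD
    obtain ⟨P, hP, -⟩ := eq6 h hD
    exact ⟨P, hP.symm⟩
  calc _ ≤ _ := Set.ncard_le_ncard hsub (Set.toFinite _)
    _ ≤ Nat.card (Sylow 3 G) := by
      rw [← Set.image_univ]
      refine (Set.ncard_image_le (Set.toFinite _)).trans ?_
      rw [Set.ncard_univ]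
    _ = 28 := (Cfsg.Agent.S1003.result h).2.1

theorem ncard21 : {D : Subgroup G | Nat.card D = 21}.ncard ≤ 8 := by
  have f7 : Fact (Nat.Prime 7) := ⟨by norm_num⟩
  have hsub : {D : Subgroup G | Nat.card D = 21} ⊆ Set.range (fun P : Sylow 7 G => normalizer (P : Set G)) := by
    intro D hD
    obtain ⟨P, hP, -⟩ := eq21 h hD
    exact ⟨P, hP.symm⟩
  calc _ ≤ _ := Set.ncard_le_ncard hsub (Set.toFinite _)
    _ ≤ Nat.card (Sylow 7 G) := by
      rw [← Set.image_univ]
      refine (Set.ncard_image_le (Set.toFinite _)).trans ?_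
      rw [Set.ncard_univ]
    _ = 8 := (Cfsg.Agent.S1003.result h).2.2

/-- **there are at most 71 self-normalizing proper subgroups** -/
theorem ncard_SN : (SN G).ncard ≤ 71 := by
  have hsub : SN G ⊆ (({D : Subgroup G | Nat.card D = 6} ∪ {D : Subgroup G | Nat.card D = 8}) ∪
      {D : Subgroup G | Nat.card D = 21}) ∪ {D : Subgroup G | Nat.card D = 24} := by
    rintro D ⟨h1, h2⟩
    rcases selfnorm_card h h1 h2 with h3 | h3 | h3 | h3
    · left; left; left; exact h3
    · left; left; right; exact h3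
    · left; right; exact h3
    · right; exact h3
  calc _ ≤ _ := Set.ncard_le_ncard hsub (Set.toFinite _)
    _ ≤ _ := Set.ncard_union_le _ _
    _ ≤ _ := Nat.add_le_add_right (Set.ncard_union_le _ _) _
    _ ≤ _ := Nat.add_le_add_right (Nat.add_le_add_right (Set.ncard_union_le _ _) _) _
    _ ≤ 28 + 21 + 8 + 14 := add_le_add (add_le_add (add_le_add (ncard6 h) (ncard8 h)) (ncard21 h)) (ncard24 h)
    _ = 71 := rfl

/-- the automorphism group has order 336 -/
theorem card_aut : Nat.card (MulAut G) = 336 := by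
  have f7 : Fact (Nat.Prime 7) := ⟨by norm_num⟩
  obtain ⟨e⟩ := Cfsg.Agent.S0495.result h (F := ZMod 7) (ZMod.card 7)
  rw [Nat.card_congr (MulAut.congr e).toEquiv]
  set L := Matrix.ProjectiveSpecialLinearGroup (Fin 2) (ZMod 7) with hL
  have hLs : IsSimpleGroup L := e.symm.isSimpleGroup
  have hLc : Nat.card L = 168 := by rw [← h]; exact (Nat.card_congr e.toEquiv).symm
  have hLf : Finite L := Finite.of_equiv _ e.toEquiv
  obtain ⟨φ, hφ, -, hk⟩ := Cfsg.Agent.S2602.result (F := ZMod 7) (p := 7) (f := 1) le_rfl (by rw [ZMod.card]; norm_num)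
    (by norm_num)
  have hker : φ.ker = ⊤ := by
    rw [eq_top_iff]
    intro x _
    rw [MonoidHom.mem_ker]
    have : Subsingleton (Multiplicative (ZMod 1)) := inferInstanceAs (Subsingleton (ZMod 1))
    exact Subsingleton.elim _ _
  have hout : (Cfsg.Inn L).index = 2 := by
    have h1 : Nat.card (Cfsg.Out L) = 2 := by
      rw [← Subgroup.card_top (G := Cfsg.Out L), ← hker, hk]
      norm_num
    exact h1
  have hinn : Nat.card (Cfsg.Inn L) = 168 := by
    have h1 : Function.Injective (MulAut.conj : L →* MulAut L) := by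
      rw [injective_iff_map_eq_one]
      intro g hg
      have hgc : g ∈ center L := by
        rw [Subgroup.mem_center_iff]
        intro y
        have := congrArg (fun σ : MulAut L => σ y) hg
        simp only [MulAut.conj_apply, MulAut.one_apply] at this
        rw [mul_inv_eq_iff_eq_mul] at this
        exact this.symm
      rcases Subgroup.Normal.eq_bot_or_eq_top (H := center L) inferInstance with h2 | h2
      · rw [h2] at hgc; exact hgc
      · exfalso
        let i : CommGroup L := { (inferInstance : Group L) with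
          mul_comm := fun a b => ((Subgroup.mem_center_iff.1 (h2 ▸ Subgroup.mem_top b : b ∈ center L) a)) }
        have h3 : (Nat.card L).Prime := @IsSimpleGroup.prime_card L i hLs
        rw [hLc] at h3
        exact absurd h3 (by norm_num)
    have h2 : Nat.card (MulAut.conj : L →* MulAut L).range = Nat.card L :=
      (Nat.card_congr (MonoidHom.ofInjective h1).toEquiv).symm
    rw [← hLc]; exact h2
  have h1 := (Cfsg.Inn L).card_mul_index
  rw [hinn, hout] at h1
  exact h1.symm

end

end Cfsg.Agent.H689.EP
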